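import Groth.Agent.HomBC.Main
import Groth.Agent.RelPCS.FlatBase
import Groth.Agent.DCohShriek.Supp
import Groth.Agent.PerfGen.ApproxResults
import Groth.Agent.AVMukai.Shift

/-!
Flat base change of `Hom` out of pseudo-coherent objects into bounded below ones.
-/

set_option autoImplicit false
set_option backward.isDefEq.respectTransparency false
set_option backward.isDefEq.respectTransparency.types false
set_option linter.style.haveILetI false
set_option linter.unusedSectionVars false

universe u

open CategoryTheory Limits Pretriangulated AlgebraicGeometry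
open scoped TensorProduct

attribute [local instance] HasDerivedCategory.standard

namespace Groth.Agent.HomBC

open Groth.Agent.DCohShriek (Bdd OKo)

section

variable {X X' : Scheme.{u}} (g : X' ⟶ X) [Flat g] [DCoh.HasLpull g]

/-- vanishing cohomology stays vanishing under flat inverse image -/
theorem isZero_HD_Lpull_flat (E : DCoh.D X) (i : ℤ) (h : IsZero (DCoh.HD E i)) :
    IsZero (DCoh.HD ((DCoh.Lpull g).obj E) i) := by
  obtain ⟨e⟩ := RelPCS.nonempty_lpullFlat g E
  exact (((Scheme.Modules.pullback g).map_isZero h).of_iso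
    ((DQCoh.homologyDerIso (Scheme.Modules.pullback g) i).app E)).of_iso
      ((DerivedCategory.homologyFunctor _ i).mapIso e)

theorem bdd_Lpull_flat {o : Option ℤ} {E : DCoh.D X} (h : Bdd o E) : Bdd o ((DCoh.Lpull g).obj E) :=
  fun c hc i hi => isZero_HD_Lpull_flat g E i (h c hc i hi)

end

/-- precomposition with the first map of a triangle whose cone lies below the target is bijective -/
theorem bijective_precomp {X : Scheme.{u}} (T : Triangle (DCoh.D X)) (hT : T ∈ distTriang (DCoh.D X))
    (E : DCoh.D X) (m : ℤ) (hC : ∀ i, m ≤ i → IsZero (DCoh.HD T.obj₃ i))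
    (hE : ∀ i, i < m + 1 → IsZero (DCoh.HD E i)) :
    Function.Bijective fun x : T.obj₂ ⟶ E => T.mor₁ ≫ x := by
  haveI : T.obj₃.IsLE (m - 1) := (DerivedCategory.isLE_iff _ _).2 fun i hi => hC i (by omega)
  haveI : E.IsGE (m + 1) := (DerivedCategory.isGE_iff _ _).2 hE
  have h0 : ∀ s : T.obj₃ ⟶ E, s = 0 := fun s =>
    DerivedCategory.TStructure.t.zero s (m - 1) (m + 1) (by omega)
  haveI : (T.obj₃⟦(-1 : ℤ)⟧).IsLE m :=
    DerivedCategory.TStructure.t.isLE_shift T.obj₃ (m - 1) (-1) m (by omega)
  have h1 : ∀ s : T.obj₃⟦(-1 : ℤ)⟧ ⟶ E, s = 0 := fun s =>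
    DerivedCategory.TStructure.t.zero s m (m + 1) (by omega)
  refine ⟨fun x y hxy => ?_, fun y => ?_⟩
  · rw [← sub_eq_zero]
    obtain ⟨s, hs⟩ := Triangle.yoneda_exact₂ _ hT (x - y) (by
      rw [Preadditive.comp_sub]; exact sub_eq_zero.2 hxy)
    rw [hs, h0 s, comp_zero]
  · obtain ⟨s, hs⟩ := Triangle.yoneda_exact₂ _ (inv_rot_of_distTriang _ hT) y (h1 _)
    exact ⟨s, hs.symm⟩

section

variable {R R' : Type u} [CommRing R] [CommRing R'] [Algebra R R']
  {C D : Type*} [Category* C] [Category* D] [Preadditive C] [Preadditive D] [Linear R C] [Linear R D]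
  [Linear R' D] [∀ A B : D, IsScalarTower R R' (A ⟶ B)] {L : C ⥤ D} [L.Additive] [L.Linear R]

theorem BC.of_precomp {G G' E : C} (u : G' ⟶ G) (h₁ : Function.Bijective fun x : G ⟶ E => u ≫ x)
    (h₂ : Function.Bijective fun x : L.obj G ⟶ L.obj E => L.map u ≫ x) (h : BC R R' L G' E) :
    BC R R' L G E := by
  let e := LinearEquiv.ofBijective (Linear.leftComp R E u) h₁
  refine (Function.Bijective.of_comp_iff' h₂ _).1 ?_
  have hk : ((fun x : L.obj G ⟶ L.obj E => L.map u ≫ x) ∘ bcm R R' L G E) =
      bcm R R' L G' E ∘ e.lTensor R' := funext fun x => (bcm_precomp R R' L u x).symm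
  rw [hk]
  exact Function.Bijective.comp h (e.lTensor R').bijective

end

variable {R R' : Type u} [CommRing R] [CommRing R'] [Algebra R R']
  {X X' : Scheme.{u}} [X.Over (Spec (CommRingCat.of R))] [X'.Over (Spec (CommRingCat.of R))]
  [X'.Over (Spec (CommRingCat.of R'))] {g : X' ⟶ X} [g.IsOver (Spec (CommRingCat.of R))]
  (hsq : IsPullback g (X' ↘ Spec (CommRingCat.of R')) (X ↘ Spec (CommRingCat.of R))
    (Spec.map (CommRingCat.ofHom (algebraMap R R'))))
  [Module.Flat R R'] [DCoh.HasLpull g] [(DCoh.Lpull g).Additive]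
  [(DCoh.Lpull g).Linear R] [∀ A B : DCoh.D X', IsScalarTower R R' (A ⟶ B)]

include hsq in
/-- **flat base change of `Hom(M, E)`, `M` perfect, or pseudo-coherent with `E` bounded below** -/
theorem bc_okO [CompactSpace X] [QuasiSeparatedSpace X] [Flat g] {o : Option ℤ} {M : DCoh.D X}
    (hMq : DCoh.IsQCohD M) (hM : OKo o M) {E : DCoh.D X} (hE : DCoh.IsQCohD E) (hb : Bdd o E) :
    BC R R' (DCoh.Lpull g) M E := by
  rcases hM with hM | ⟨ho, hM⟩
  · exact bc hsq hM hE
  obtain ⟨c, rfl⟩ := Option.isSome_iff_exists.1 ho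
  obtain ⟨r, hr⟩ := PerfGen.hasApprox' (X := X) Set.univ isClosed_univ
    (by rw [Set.compl_univ]; exact isCompact_empty)
  let m := c - 1
  obtain ⟨P, α, hP, -, hiso, hepi⟩ := hr m M hMq (hM _) (fun i _ => Set.subset_univ _)
  obtain ⟨N, β, δ, hT⟩ := distinguished_cocone_triangle α
  haveI := hepi
  have hN : ∀ i, m ≤ i → IsZero (DCoh.HD N i) := fun i hi => by
    haveI : IsIso ((DerivedCategory.homologyFunctor X.Modules (i + 1)).map α) := hiso _ (by omega)
    haveI : Epi ((DerivedCategory.homologyFunctor X.Modules i).map α) := by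
      rcases eq_or_lt_of_le hi with rfl | h
      · exact hepi
      · haveI := hiso i h; infer_instance
    exact (DerivedCategory.HomologySequence.exact₃ _ hT i (i + 1) rfl).isZero_X₂
      ((DerivedCategory.HomologySequence.epi_homologyMap_mor₁_iff _ hT i).1
        (by show Epi ((DerivedCategory.homologyFunctor X.Modules i).map α); infer_instance))
      ((DerivedCategory.HomologySequence.mono_homologyMap_mor₁_iff _ hT i (i + 1) rfl).1
        (by show Mono ((DerivedCategory.homologyFunctor X.Modules (i + 1)).map α); infer_instance))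
  refine (bc hsq hP hE).of_precomp α (bijective_precomp _ hT E m hN fun i hi => hb c rfl i (by omega)) ?_
  obtain ⟨d, hd⟩ := Dual3Nu.triP_Lpull g _ hT
  exact bijective_precomp _ hd _ m (fun i hi => isZero_HD_Lpull_flat g N i (hN i hi))
    fun i hi => isZero_HD_Lpull_flat g E i (hb c rfl i (by omega))

end Groth.Agent.HomBC
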