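import Groth.Prelude.Def_KLin
import Groth.Agent.DerPush.Basic
import Groth.Agent.DCohShriek.Torsion
import Groth.Agent.DCohShriek.Adjoint
import Mathlib.Algebra.Homology.DerivedCategory.Linear

/-!
Scalars acting on the derived category of a scheme over an affine base.
-/

set_option autoImplicit false
set_option backward.isDefEq.respectTransparency false
set_option backward.isDefEq.respectTransparency.types false
set_option linter.style.haveILetI false
set_option linter.unusedSectionVars false

universe u

open CategoryTheory Limits AlgebraicGeometry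

attribute [local instance] HasDerivedCategory.standard

namespace Groth.Agent.HomBC

variable {X : Scheme.{u}}

section Compare

variable {A B : Type u} [CommRing A] [CommRing B] [X.Over (Spec (CommRingCat.of A))]
  [X.Over (Spec (CommRingCat.of B))]

lemma smul_modules_eq {a : A} {b : B}
    (h : Coh.toGlobal (X ↘ Spec (CommRingCat.of A)) a = Coh.toGlobal (X ↘ Spec (CommRingCat.of B)) b)
    {M N : X.Modules} (f : M ⟶ N) : a • f = b • f := by
  refine Scheme.Modules.hom_ext _ _ fun U => ?_
  ext m
  rw [KLin.smul_app_apply, KLin.smul_app_apply, h]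

/-- scalars with the same global function act alike -/
theorem smul_D_eq {a : A} {b : B}
    (h : Coh.toGlobal (X ↘ Spec (CommRingCat.of A)) a = Coh.toGlobal (X ↘ Spec (CommRingCat.of B)) b)
    {E F : DCoh.D X} (f : E ⟶ F) : a • f = b • f := by
  suffices a • 𝟙 E = b • 𝟙 E by
    have h1 : a • f = (a • 𝟙 E) ≫ f := by rw [Linear.smul_comp, Category.id_comp]
    have h2 : b • f = (b • 𝟙 E) ≫ f := by rw [Linear.smul_comp, Category.id_comp]
    rw [h1, h2, this]
  obtain ⟨K, ⟨e⟩⟩ : ∃ K : CochainComplex X.Modules ℤ, Nonempty (DerivedCategory.Q.obj K ≅ E) :=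
    ⟨_, ⟨DerivedCategory.Q.objObjPreimageIso E⟩⟩
  have hK : (a • 𝟙 K : K ⟶ K) = b • 𝟙 K := by
    ext n : 1
    simp only [HomologicalComplex.smul_f_apply]
    exact smul_modules_eq h _
  have hQ : a • 𝟙 (DerivedCategory.Q.obj K) = b • 𝟙 (DerivedCategory.Q.obj K) := by
    rw [← CategoryTheory.Functor.map_id, ← Functor.map_smul, ← Functor.map_smul, hK]
  calc a • 𝟙 E = e.inv ≫ (a • 𝟙 (DerivedCategory.Q.obj K)) ≫ e.hom := by simp
    _ = e.inv ≫ (b • 𝟙 (DerivedCategory.Q.obj K)) ≫ e.hom := by rw [hQ]
    _ = b • 𝟙 E := by simp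

/-- scalars through an algebra map -/
theorem algebraMap_smul_D [Algebra A B]
    (h : ∀ a : A, Coh.toGlobal (X ↘ Spec (CommRingCat.of A)) a =
      Coh.toGlobal (X ↘ Spec (CommRingCat.of B)) (algebraMap A B a))
    {E F : DCoh.D X} (a : A) (f : E ⟶ F) : algebraMap A B a • f = a • f :=
  (smul_D_eq (h a) f).symm

theorem isScalarTower_D [Algebra A B]
    (h : ∀ a : A, Coh.toGlobal (X ↘ Spec (CommRingCat.of A)) a =
      Coh.toGlobal (X ↘ Spec (CommRingCat.of B)) (algebraMap A B a)) (E F : DCoh.D X) :
    IsScalarTower A B (E ⟶ F) :=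
  IsScalarTower.of_algebraMap_smul fun a f => algebraMap_smul_D h a f

end Compare

/-- the tautological structure over the ring of global functions -/
noncomputable abbrev overΓ (X : Scheme.{u}) : X.Over (Spec (CommRingCat.of Γ(X, ⊤))) := ⟨X.toSpecΓ⟩

section Linear

variable {A : Type u} [CommRing A] {X' : Scheme.{u}} [X.Over (Spec (CommRingCat.of A))]
  [X'.Over (Spec (CommRingCat.of A))] (g : X' ⟶ X) [g.IsOver (Spec (CommRingCat.of A))]

theorem linear_Lpull [DCoh.HasLpull g] : (DCoh.Lpull g).Linear A := by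
  haveI : DCoh.HasRpush g := DerPush.hasRpush_sch g
  obtain ⟨adj⟩ := DerPush.nonempty_lpull_adj_rpush g
  haveI : (DCoh.Rpush g).Additive := DCohShriek.additive_rpush g
  haveI := DCohShriek.linear_rpush (A := A) g
  refine ⟨fun {E F} f r => ?_⟩
  apply (adj.homEquiv _ _).injective
  have h1 := adj.unit.naturality (r • f)
  have h2 := adj.unit.naturality f
  simp only [Functor.id_map, Functor.comp_map] at h1 h2
  rw [Adjunction.homEquiv_unit, Adjunction.homEquiv_unit, ← h1, Functor.map_smul, Linear.comp_smul,
    Linear.smul_comp, ← h2]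

end Linear

end Groth.Agent.HomBC
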