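import Groth.Agent.HomBC.Class
import Groth.Agent.HomBC.Scalar
import Groth.Agent.Dual3Nu.Local
import Groth.Agent.KunnethHH.Bridge
import Groth.Agent.PerfHom.Basic
import Groth.Agent.AVMukai.Shift
import Groth.Agent.PerfGen.TwistGen
import Groth.Agent.PerfGen.Extend
import Groth.Agent.DerPerf.Local

/-!
Flat base change of `Hom` out of perfect objects on an affine scheme.
-/

set_option autoImplicit false
set_option backward.isDefEq.respectTransparency false
set_option backward.isDefEq.respectTransparency.types false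
set_option linter.style.haveILetI false
set_option linter.unusedSectionVars false
set_option maxHeartbeats 800000

universe u

open CategoryTheory Limits Pretriangulated AlgebraicGeometry ZeroObject
open scoped TensorProduct

attribute [local instance] HasDerivedCategory.standard

namespace Groth.Agent.HomBC

open Groth.Agent.PerfGen

variable {R R' : Type u} [CommRing R] [CommRing R'] [Algebra R R'] [Module.Flat R R']
  {X X' : Scheme.{u}} [X.Over (Spec (CommRingCat.of R))] [X'.Over (Spec (CommRingCat.of R))]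
  [X'.Over (Spec (CommRingCat.of R'))] (g : X' ⟶ X) [DCoh.HasLpull g] [(DCoh.Lpull g).Additive]
  [(DCoh.Lpull g).Linear R] [∀ A B : DCoh.D X', IsScalarTower R R' (A ⟶ B)]

/-- base change of `Hom` is compatible with direct sums -/
theorem BC.sigma [CompactSpace X] [QuasiSeparatedSpace X] [CompactSpace X'] [QuasiSeparatedSpace X']
    {G : DCoh.D X} (hG : DCoh.IsPerfect G) {κ : Type u} (E : κ → DCoh.D X) [HasCoproduct E]
    (hq : ∀ k, DCoh.IsQCohD (E k)) (h : ∀ k, BC R R' (DCoh.Lpull g) G (E k)) :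
    BC R R' (DCoh.Lpull g) G (∐ E) := by
  classical
  haveI := PerfGen.hasCoproducts_D' X' κ
  haveI := Dual3Nu.preservesCoproduct_Lpull g E
  have hι : ∀ i k, Sigma.ι E i ≫ proj E k = if h : i = k then eqToHom (by rw [h]) else 0 := fun i k => by
    simp [proj]
  refine ⟨(injective_iff_map_eq_zero _).2 fun t ht => ?_, fun z => ?_⟩
  · let π : Finset κ → (∐ E ⟶ ∐ E) := fun s => ∑ k ∈ s, proj E k ≫ Sigma.ι E k
    have hπ : ∀ (s : Finset κ) (i : κ), i ∈ s → Sigma.ι E i ≫ π s = Sigma.ι E i := fun s i hi => by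
      simp only [π, Preadditive.comp_sum]
      rw [Finset.sum_eq_single i (fun k _ hk => by rw [← Category.assoc, hι, dif_neg (Ne.symm hk), zero_comp])
        (fun h => absurd hi h), ← Category.assoc, hι, dif_pos rfl, eqToHom_refl, Category.id_comp]
    have key : ∀ v : R' ⊗[R] (G ⟶ ∐ E), ∃ s₀ : Finset κ, ∀ s, s₀ ⊆ s →
        (Linear.rightComp R G (π s)).lTensor R' v = v := fun v => by
      induction v using TensorProduct.induction_on with
      | zero => exact ⟨∅, fun s _ => map_zero _⟩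
      | tmul r f =>
        obtain ⟨s₀, p, hp⟩ := finFac_perfect X hG E hq f
        refine ⟨s₀, fun s hs => ?_⟩
        rw [LinearMap.lTensor_tmul]
        refine congrArg (r ⊗ₜ[R] ·) ?_
        show f ≫ π s = f
        rw [hp, Preadditive.sum_comp]
        exact Finset.sum_congr rfl fun i hi => by rw [Category.assoc, hπ s i (hs hi)]
      | add a b ha hb =>
        obtain ⟨s, hs⟩ := ha
        obtain ⟨s', hs'⟩ := hb
        exact ⟨s ∪ s', fun w hw => by
          rw [map_add, hs w (Finset.union_subset_left hw), hs' w (Finset.union_subset_right hw)]⟩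
    obtain ⟨s, hs⟩ := key t
    rw [← hs s subset_rfl]
    have : Linear.rightComp R G (π s) = ∑ k ∈ s, Linear.rightComp R G (Sigma.ι E k) ∘ₗ
        Linear.rightComp R G (proj E k) := LinearMap.ext fun f => by simp [π, Preadditive.comp_sum]
    rw [this]
    simp only [map_sum, LinearMap.lTensor_comp, LinearMap.coe_sum, Finset.sum_apply, LinearMap.comp_apply,
      show (LinearMap.lTensor R' : ((G ⟶ ∐ E) →ₗ[R] (G ⟶ ∐ E)) → _) = ⇑(LinearMap.lTensorHom R') from rfl]
    refine Finset.sum_eq_zero fun k _ => ?_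
    have h0 : (Linear.rightComp R G (proj E k)).lTensor R' t = 0 := (h k).1 (by
      rw [map_zero, bcm_postcomp, ht, zero_comp])
    simp [LinearMap.lTensor_comp, h0]
  · obtain ⟨s, p, hp⟩ := finFac_perfect X' (DerPerf.isPerfect_Lpull g G hG) (fun k => (DCoh.Lpull g).obj (E k))
      (fun k => DQCoh.isQCohD_Lpull g _ (hq k)) (z ≫ (PreservesCoproduct.iso (DCoh.Lpull g) E).hom)
    choose x hx using fun k => (h k).2 (p k)
    refine ⟨∑ k ∈ s, (Linear.rightComp R G (Sigma.ι E k)).lTensor R' (x k), ?_⟩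
    rw [map_sum, ← cancel_mono (PreservesCoproduct.iso (DCoh.Lpull g) E).hom, hp, Preadditive.sum_comp]
    refine Finset.sum_congr rfl fun k _ => ?_
    rw [bcm_postcomp, hx, Category.assoc]
    refine congrArg (p k ≫ ·) ?_
    rw [← Iso.eq_comp_inv]
    exact (ι_comp_sigmaComparison (DCoh.Lpull g) E k).symm

/-- all shifts of `W` base change `Hom` into `E` -/
def BCSh (E : DCoh.D X) : ObjectProperty (DCoh.D X) := fun W => ∀ n : ℤ, BC R R' (DCoh.Lpull g) (W⟦n⟧) E

instance retracts_bcSh (E : DCoh.D X) : (BCSh (R := R) (R' := R') g E).IsStableUnderRetracts :=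
  ⟨fun {_ _} r h n => (h n).of_retract (r.map (shiftFunctor _ n))⟩

instance shift_bcSh (E : DCoh.D X) : (BCSh (R := R) (R' := R') g E).IsStableUnderShift ℤ :=
  ⟨fun m => ⟨fun W h n => (h (m + n)).of_iso_left ((shiftFunctorAdd _ m n).app W)⟩⟩

lemma bcSh_obj₃ (E : DCoh.D X) (T : Triangle (DCoh.D X)) (hT : T ∈ distTriang (DCoh.D X))
    (h₁ : BCSh (R := R) (R' := R') g E T.obj₁) (h₂ : BCSh (R := R) (R' := R') g E T.obj₂) :
    BCSh (R := R) (R' := R') g E T.obj₃ := fun n =>
  BC.obj₃_left (Dual3Nu.triP_Lpull g) _ (Triangle.shift_distinguished _ hT n) E (h₁ n) (h₂ n)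
    ((h₁ (n + 1)).of_iso_left ((shiftFunctorAdd _ n 1).app _))
    ((h₂ (n + 1)).of_iso_left ((shiftFunctorAdd _ n 1).app _))

instance triangulatedClosed₂_bcSh (E : DCoh.D X) : (BCSh (R := R) (R' := R') g E).IsTriangulatedClosed₂ :=
  ObjectProperty.IsTriangulatedClosed₂.mk' fun T hT h₁ h₃ =>
    have h₃' : BCSh (R := R) (R' := R') g E (T.obj₃⟦(-1 : ℤ)⟧) := fun n =>
      (h₃ (-1 + n)).of_iso_left ((shiftFunctorAdd (DCoh.D X) (-1) n).app T.obj₃)
    bcSh_obj₃ g E T.invRotate (inv_rot_of_distTriang _ hT) h₃' h₁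

instance containsZero_bcSh (E : DCoh.D X) : (BCSh (R := R) (R' := R') g E).ContainsZero :=
  ⟨⟨0, isZero_zero _, fun n => BC.of_subsingleton
    ⟨((shiftFunctor _ n).map_isZero (isZero_zero _)).eq_of_src⟩
    ⟨((DCoh.Lpull g).map_isZero ((shiftFunctor _ n).map_isZero (isZero_zero _))).eq_of_src⟩⟩⟩

instance isTriangulated_bcSh (E : DCoh.D X) : (BCSh (R := R) (R' := R') g E).IsTriangulated := {}

section Units

/-- scalars are all endomorphisms of a shifted structure sheaf -/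
lemma bijective_smul_unit (Z : Scheme.{u}) (m : ℤ) {P : DCoh.D Z}
    (e : (DCoh.inD Z (Coh.structureModule Z))⟦m⟧ ≅ P) :
    letI := overΓ Z
    Function.Bijective fun c : Γ(Z, ⊤) => c • 𝟙 P := by
  letI := overΓ Z
  let O := Coh.structureModule Z
  have hc : ∀ c : Γ(Z, ⊤), Coh.toGlobal (Z ↘ Spec (CommRingCat.of Γ(Z, ⊤))) c = c := fun c =>
    DCohShriek.toGlobal_toSpecΓ' Z c
  have h1 : Function.Bijective fun c : Γ(Z, ⊤) => c • 𝟙 O := by
    have hev : ∀ c : Γ(Z, ⊤), ((c • 𝟙 O : O ⟶ O).app ⊤) (1 : Γ(Z, ⊤)) = c := fun c => by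
      rw [KLin.smul_app_apply, Scheme.Modules.Hom.id_app]
      show Z.presheaf.map (𝟙 _) (Coh.toGlobal _ c) * (1 : Γ(Z, ⊤)) = c
      rw [mul_one, CategoryTheory.Functor.map_id, hc]
      rfl
    refine ⟨fun c c' h => ?_, fun f => ⟨(f.app ⊤) (1 : Γ(Z, ⊤)), ?_⟩⟩
    · exact (hev c).symm.trans ((congrArg (fun φ : O ⟶ O => (φ.app ⊤) (1 : Γ(Z, ⊤))) h).trans (hev c'))
    · refine (SheafOfModules.unitHomEquiv (R := Z.ringCatSheaf) O).injective (Subtype.ext (funext fun U => ?_))
      have hf : ∀ φ : O ⟶ O, (O.unitHomEquiv φ).val U =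
          Groth.Agent.QC.res O (le_top : U.unop ≤ ⊤) (φ.app ⊤ (1 : Γ(Z, ⊤))) := fun φ =>
        ((O.unitHomEquiv φ).property (homOfLE (le_top : U.unop ≤ ⊤)).op).symm
      rw [hf, hf]
      exact congrArg _ (hev _)
  haveI : (DerivedCategory.singleFunctor Z.Modules 0).Linear Γ(Z, ⊤) := ⟨fun {M N} f r => by
    let i := DerivedCategory.singleFunctorIsoCompQ Z.Modules 0
    have hn := i.hom.naturality (r • f)
    have hn' := i.hom.naturality f
    rw [← cancel_mono (i.hom.app N), hn, Functor.map_smul, Linear.comp_smul, Linear.smul_comp, hn']⟩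
  let F := DerivedCategory.singleFunctor Z.Modules 0 ⋙ shiftFunctor (DCoh.D Z) m
  have h2 : (fun c : Γ(Z, ⊤) => c • 𝟙 P) =
      (fun φ : F.obj O ⟶ F.obj O => e.inv ≫ φ ≫ e.hom) ∘ F.map ∘ fun c => c • 𝟙 O := by
    funext c
    simp only [Function.comp_apply, Functor.map_smul, CategoryTheory.Functor.map_id, Linear.smul_comp,
      Linear.comp_smul]
    show _ = c • (e.inv ≫ 𝟙 (F.obj O) ≫ e.hom)
    erw [Category.id_comp, Iso.inv_hom_id]
  rw [h2]
  exact (show Function.Bijective fun φ : F.obj O ⟶ F.obj O => e.inv ≫ φ ≫ e.hom from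
    (e.homCongr e).bijective).comp (((Functor.FullyFaithful.ofFullyFaithful F).map_bijective _ _).comp h1)

/-- no maps between different shifts of the structure sheaf of an affine scheme -/
lemma subsingleton_unit (Z : Scheme.{u}) [IsAffine Z] {m k : ℤ} (hmk : m ≠ k) :
    Subsingleton ((DCoh.inD Z (Coh.structureModule Z))⟦m⟧ ⟶ (DCoh.inD Z (Coh.structureModule Z))⟦k⟧) := by
  let O := DCoh.inD Z (Coh.structureModule Z)
  suffices h : ∀ l : ℤ, l ≠ 0 → ∀ φ : O ⟶ O⟦l⟧, φ = 0 by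
    refine ⟨fun φ ψ => (shiftFunctor (DCoh.D Z) (-m)).map_injective ?_⟩
    let a := (shiftFunctorCompIsoId (DCoh.D Z) m (-m) (add_neg_cancel m)).app O
    let b := (shiftFunctorAdd' (DCoh.D Z) k (-m) (k - m) (by omega)).app O
    rw [← cancel_epi a.inv, ← cancel_mono b.inv, h (k - m) (by omega) ((a.inv ≫ φ⟦-m⟧') ≫ b.inv),
      h (k - m) (by omega) ((a.inv ≫ ψ⟦-m⟧') ≫ b.inv)]
  intro l hl φ
  let k₀ : Spec Γ(Z, ⊤) ⟶ Z := Z.isoSpec.inv
  haveI := KFlat.hasLpull k₀
  haveI : IsOpenImmersion k₀ := inferInstanceAs (IsOpenImmersion Z.isoSpec.inv)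
  obtain ⟨eO⟩ := Dual3Nu.nonempty_RD_inD k₀
  have hO : DCoh.IsQCohD O := isQCohD_of_isPerfect (PerfPush.isPerfect_unit Z)
  have hk : Set.range k₀.base = Set.univ := Set.range_eq_univ.2 fun x => ⟨Z.isoSpec.hom.base x, by
    show (Z.isoSpec.hom ≫ Z.isoSpec.inv).base x = x
    rw [Iso.hom_inv_id]; rfl⟩
  have hu : IsIso ((adjR k₀).unit.app (O⟦l⟧)) :=
    isIso_of_cover k₀ k₀ (by rw [hk, Set.union_self]) _ (isIso_map_unit_adjR k₀ _) (isIso_map_unit_adjR k₀ _)
  have h0 : (DQCoh.RD k₀).map φ = 0 := by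
    rw [← cancel_epi eO.inv, comp_zero]
    refine PerfHom.eq_zero_of_affine _ (isQCohD_RD k₀ (isQCohD_shift hO l)) ?_ _
    refine IsZero.of_iso ((Scheme.Modules.restrictFunctor k₀).map_isZero ?_) (hdRD k₀ (O⟦l⟧) 0)
    refine IsZero.of_iso ?_
      (((DerivedCategory.homologyFunctor Z.Modules 0).shiftIso l 0 l (add_zero l)).app O)
    refine IsZero.of_iso ?_ ((DerivedCategory.homologyFunctor Z.Modules l).mapIso
      ((DerivedCategory.singleFunctorIsoCompQ Z.Modules 0).app _) ≪≫ KFlat.hdIso _ l)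
    exact (HomologicalComplex.exactAt_single_obj (ComplexShape.up ℤ) (Coh.structureModule Z) (i := l) (j := 0)
      hl).isZero_homology
  rw [← cancel_mono ((adjR k₀).unit.app (O⟦l⟧)), zero_comp]
  refine ((adjR k₀).unit.naturality φ).trans ?_
  show (adjR k₀).unit.app O ≫ (DCoh.Rpush k₀).map ((DQCoh.RD k₀).map φ) = 0
  rw [h0, Functor.map_zero, comp_zero]

end Units

variable {g} (hsq : IsPullback g (X' ↘ Spec (CommRingCat.of R')) (X ↘ Spec (CommRingCat.of R))
    (Spec.map (CommRingCat.ofHom (algebraMap R R'))))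

include hsq in
theorem bc_unit [IsAffine X] (m k : ℤ) :
    BC R R' (DCoh.Lpull g) ((DCoh.inD X (Coh.structureModule X))⟦m⟧) ((DCoh.inD X (Coh.structureModule X))⟦k⟧) := by
  haveI : IsAffine X' := IsAffine.of_isPullback hsq
  obtain ⟨u⟩ := PerfPush.nonempty_lpull_unit g
  obtain ⟨sm⟩ := AVMukai.nonempty_lpull_shift g (DCoh.inD X (Coh.structureModule X)) m
  by_cases hmk : m = k
  swap
  · obtain ⟨sk⟩ := AVMukai.nonempty_lpull_shift g (DCoh.inD X (Coh.structureModule X)) k
    refine BC.of_subsingleton (subsingleton_unit X hmk) ?_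
    haveI := subsingleton_unit X' hmk
    exact ((sm ≪≫ (shiftFunctor _ m).mapIso u).homCongr (sk ≪≫ (shiftFunctor _ k).mapIso u)).subsingleton
  subst hmk
  let P := (DCoh.inD X (Coh.structureModule X))⟦m⟧
  -- rings
  let pX := X ↘ Spec (CommRingCat.of R)
  let pX' := X' ↘ Spec (CommRingCat.of R')
  letI : Algebra R Γ(X, ⊤) := (Coh.toGlobal pX).toAlgebra
  letI : Algebra R' Γ(X', ⊤) := (Coh.toGlobal pX').toAlgebra
  letI : Algebra Γ(X, ⊤) Γ(X', ⊤) := g.appTop.hom.toAlgebra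
  letI : Algebra R Γ(X', ⊤) := ((Coh.toGlobal pX').comp (algebraMap R R')).toAlgebra
  have hcomm : ∀ a : R, g.appTop (Coh.toGlobal pX a) = Coh.toGlobal pX' (algebraMap R R' a) := fun a => by
    rw [← KLin.toGlobal_comp g pX a, hsq.w]
    exact congrArg pX'.appTop.hom
      (congrArg (fun φ => φ.hom a) (Scheme.ΓSpecIso_inv_naturality (CommRingCat.ofHom (algebraMap R R')))).symm
  haveI : IsScalarTower R R' Γ(X', ⊤) := IsScalarTower.of_algebraMap_eq fun _ => rfl
  haveI : IsScalarTower R Γ(X, ⊤) Γ(X', ⊤) := IsScalarTower.of_algebraMap_eq fun a => (hcomm a).symm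
  have hpo : IsPushout (CommRingCat.ofHom (algebraMap R R')) (CommRingCat.ofHom (algebraMap R Γ(X, ⊤)))
      (CommRingCat.ofHom (algebraMap R' Γ(X', ⊤))) (CommRingCat.ofHom (algebraMap Γ(X, ⊤) Γ(X', ⊤))) :=
    (isPushout_appTop_of_isPullback hsq).flip.of_iso (Scheme.ΓSpecIso _) (Scheme.ΓSpecIso _) (Iso.refl _)
      (Iso.refl _)
      (Scheme.ΓSpecIso_naturality (CommRingCat.ofHom (algebraMap R R')))
      (by
        refine (Category.comp_id _).trans ?_
        rw [← Iso.inv_comp_eq]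
        rfl)
      (by
        refine (Category.comp_id _).trans ?_
        rw [← Iso.inv_comp_eq]
        rfl)
      ((Category.comp_id _).trans (Category.id_comp _).symm)
  haveI hP : Algebra.IsPushout R R' Γ(X, ⊤) Γ(X', ⊤) := CommRingCat.isPushout_iff_isPushout.1 hpo
  -- scalars
  letI := overΓ X
  letI := overΓ X'
  letI : X'.Over (Spec (CommRingCat.of Γ(X, ⊤))) := ⟨g ≫ X.toSpecΓ⟩
  haveI : g.IsOver (Spec (CommRingCat.of Γ(X, ⊤))) := ⟨rfl⟩
  haveI := linear_Lpull (A := Γ(X, ⊤)) g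
  let tX : R →+* Γ(X, ⊤) := Coh.toGlobal pX
  let tX' : R' →+* Γ(X', ⊤) := Coh.toGlobal pX'
  have hX : ∀ a : R, ∀ {E F : DCoh.D X} (φ : E ⟶ F), a • φ = tX a • φ := fun a {E F} φ =>
    smul_D_eq (DCohShriek.toGlobal_toSpecΓ' X _).symm φ
  have hX' : ∀ r : R', ∀ {E F : DCoh.D X'} (φ : E ⟶ F), r • φ = tX' r • φ := fun r {E F} φ =>
    smul_D_eq (DCohShriek.toGlobal_toSpecΓ' X' _).symm φ
  have hg : ∀ s : Γ(X, ⊤), ∀ {E F : DCoh.D X'} (φ : E ⟶ F), s • φ = g.appTop s • φ := fun s {E F} φ => by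
    refine smul_D_eq ?_ φ
    show Coh.toGlobal (g ≫ X.toSpecΓ) s = Coh.toGlobal X'.toSpecΓ (g.appTop s)
    rw [KLin.toGlobal_comp, DCohShriek.toGlobal_toSpecΓ', DCohShriek.toGlobal_toSpecΓ']
  have hθ := bijective_smul_unit X m (Iso.refl P)
  have hθ' := bijective_smul_unit X' m ((shiftFunctor _ m).mapIso u.symm ≪≫ sm.symm)
  let θ : Γ(X, ⊤) →ₗ[R] (P ⟶ P) :=
    { toFun := fun c => c • 𝟙 P
      map_add' := fun c c' => add_smul c c' _
      map_smul' := fun a c => by
        show (tX a * c) • 𝟙 P = a • c • 𝟙 P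
        rw [hX, mul_smul] }
  let μ : R' ⊗[R] Γ(X, ⊤) ≃ₗ[R'] Γ(X', ⊤) := IsBaseChange.equiv (Algebra.IsPushout.out (R := R) (S := R'))
  have key : ∀ x, bcm R R' (DCoh.Lpull g) P P ((LinearEquiv.ofBijective θ hθ).lTensor R' x) =
      μ x • 𝟙 ((DCoh.Lpull g).obj P) := fun x => by
    induction x using TensorProduct.induction_on with
    | zero => simp
    | tmul r s =>
      simp only [LinearEquiv.lTensor_tmul, bcm_tmul, LinearEquiv.ofBijective_apply, μ, IsBaseChange.equiv_tmul]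
      show r • (DCoh.Lpull g).map (s • 𝟙 P) = (r • g.appTop s) • _
      rw [Functor.map_smul, CategoryTheory.Functor.map_id, hg, hX', Algebra.smul_def r, mul_smul]
      rfl
    | add a b ha hb => simp only [map_add, ha, hb, add_smul]
  refine (Function.Bijective.of_comp_iff _ ((LinearEquiv.ofBijective θ hθ).lTensor R').bijective).1 ?_
  show Function.Bijective fun x => bcm R R' (DCoh.Lpull g) P P ((LinearEquiv.ofBijective θ hθ).lTensor R' x)
  rw [funext key]
  exact hθ'.comp μ.bijective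

include hsq in
/-- **flat base change of `Hom` out of a perfect object, affine case** -/
theorem bc_affine [IsAffine X] {G : DCoh.D X} (hG : DCoh.IsPerfect G) {E : DCoh.D X} (hE : DCoh.IsQCohD E) :
    BC R R' (DCoh.Lpull g) G E := by
  haveI : IsAffine X' := IsAffine.of_isPullback hsq
  let O := DCoh.inD X (Coh.structureModule X)
  have hOp : DCoh.IsPerfect O := PerfPush.isPerfect_unit X
  let Q : ObjectProperty (DCoh.D X) := fun E => DCoh.IsQCohD E ∧ ∀ m n : ℤ, BC R R' (DCoh.Lpull g) (O⟦m⟧) (E⟦n⟧)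
  haveI : Q.IsClosedUnderIsomorphisms := ⟨fun {A B} e ⟨h, h'⟩ =>
    ⟨(DCoh.IsQCohD (X := X)).prop_of_iso e h, fun m n => (h' m n).of_iso ((shiftFunctor _ n).mapIso e)⟩⟩
  have hQ : Localizing.{u} Q :=
    { shift := fun {A} h m => ⟨isQCohD_shift h.1 m,
        fun l n => (h.2 l (m + n)).of_iso ((shiftFunctorAdd _ m n).app A)⟩
      obj₃ := fun T hT h₁ h₂ => ⟨isQCohD_obj₃ _ hT h₁.1 h₂.1, fun l n =>
        BC.obj₃ (Dual3Nu.triP_Lpull g) _ (Triangle.shift_distinguished _ hT n) _ (h₁.2 l n) (h₂.2 l n)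
          ((h₁.2 l (n + 1)).of_iso ((shiftFunctorAdd _ n 1).app _))
          ((h₂.2 l (n + 1)).of_iso ((shiftFunctorAdd _ n 1).app _))⟩
      coprod := fun {κ} A _ hA => ⟨(localizing_qcohD X).coprod A fun k => (hA k).1, fun l n => by
        haveI := PerfGen.hasCoproducts_D' X κ
        exact (BC.sigma g (DQCoh.perfect_shift hOp l) (fun k => (A k)⟦n⟧) (fun k => isQCohD_shift (hA k).1 n)
          fun k => (hA k).2 l n).of_iso (PreservesCoproduct.iso (shiftFunctor (DCoh.D X) n) A).symm⟩ }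
  have hall := le_of_gen (localizing_qcohD X) (cpt_of_perfect hOp) (gen_unit_affine X) hQ
    ⟨isQCohD_of_isPerfect hOp, fun m n => bc_unit hsq m n⟩
  have hO : BCSh (R := R) (R' := R') g E O := fun m =>
    ((hall E hE).2 m 0).of_iso ((shiftFunctorZero (DCoh.D X) ℤ).app E)
  obtain ⟨W, p, q, hW, hpq⟩ := exists_fac (localizing_qcohD X) (localizing_qcohD X) (fun _ h => h)
    (isQCohD_of_isPerfect hOp) (cpt_of_perfect hOp) (gen_unit_affine X) (isQCohD_of_isPerfect hG)
    (cpt_of_perfect hG) (𝟙 G)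
  haveI : (only O).Nonempty := ⟨⟨O, rfl⟩⟩
  have hWf : BCSh (R := R) (R' := R') g E W :=
    (ObjectProperty.triangEnvelope_le_iff (P := only O)).2 (fun Z hZ => by cases hZ; exact hO) _ hW.1
  exact (((BCSh (R := R) (R' := R') g E).prop_of_retract ⟨p, q, hpq⟩ hWf) 0).of_iso_left
    ((shiftFunctorZero (DCoh.D X) ℤ).app G)

end Groth.Agent.HomBC
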