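import Groth.Agent.Dual3Nu.Tri
import Mathlib.Algebra.FiveLemma
import Mathlib.RingTheory.Flat.Basic
import Mathlib.RingTheory.TensorProduct.Basic
import Mathlib.CategoryTheory.Linear.LinearFunctor

/-!
Flat base change of `Hom` along a linear functor: closure properties.
-/

set_option autoImplicit false
set_option backward.isDefEq.respectTransparency false
set_option linter.style.haveILetI false
set_option linter.unusedSectionVars false

universe u

open CategoryTheory Limits Pretriangulated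
open scoped TensorProduct

namespace Groth.Agent.HomBC

section

variable (R R' : Type u) [CommRing R] [CommRing R'] [Algebra R R']
  {C D : Type*} [Category* C] [Category* D] [Preadditive C] [Preadditive D] [Linear R C] [Linear R D]
  [Linear R' D] [∀ A B : D, IsScalarTower R R' (A ⟶ B)]
  (L : C ⥤ D) [L.Additive] [L.Linear R]

/-- the base change map on `Hom` -/
noncomputable def bcm (G E : C) : R' ⊗[R] (G ⟶ E) →ₗ[R'] (L.obj G ⟶ L.obj E) :=
  (L.mapLinearMap R (X := G) (Y := E)).liftBaseChange R'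

@[simp]
lemma bcm_tmul (G E : C) (r : R') (f : G ⟶ E) : bcm R R' L G E (r ⊗ₜ f) = r • L.map f := by
  simp [bcm]

/-- `Hom(G, E)` base changes to `Hom(LG, LE)` -/
def BC (G E : C) : Prop := Function.Bijective (bcm R R' L G E)

lemma bcm_postcomp {G E E' : C} (u : E ⟶ E') (x : R' ⊗[R] (G ⟶ E)) :
    bcm R R' L G E' ((Linear.rightComp R G u).lTensor R' x) = bcm R R' L G E x ≫ L.map u := by
  induction x using TensorProduct.induction_on with
  | zero => simp
  | tmul r f => simp [Linear.smul_comp]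
  | add x y hx hy => simp [hx, hy, Preadditive.add_comp]

lemma bcm_precomp {G G' E : C} (u : G' ⟶ G) (x : R' ⊗[R] (G ⟶ E)) :
    bcm R R' L G' E ((Linear.leftComp R E u).lTensor R' x) = L.map u ≫ bcm R R' L G E x := by
  induction x using TensorProduct.induction_on with
  | zero => simp
  | tmul r f => simp [Linear.comp_smul]
  | add x y hx hy => simp [hx, hy, Preadditive.comp_add]

variable {R R' L}

lemma BC.of_iso {G E E' : C} (e : E ≅ E') (h : BC R R' L G E) : BC R R' L G E' := by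
  have hc : (Linear.rightComp R G e.inv).lTensor R' ∘ₗ (Linear.rightComp R G e.hom).lTensor R' =
      LinearMap.id := by
    rw [← LinearMap.lTensor_comp, show Linear.rightComp R G e.inv ∘ₗ Linear.rightComp R G e.hom = LinearMap.id from
      LinearMap.ext fun f => by simp, LinearMap.lTensor_id]
  have hc' : (Linear.rightComp R G e.hom).lTensor R' ∘ₗ (Linear.rightComp R G e.inv).lTensor R' =
      LinearMap.id := by
    rw [← LinearMap.lTensor_comp, show Linear.rightComp R G e.hom ∘ₗ Linear.rightComp R G e.inv = LinearMap.id from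
      LinearMap.ext fun f => by simp, LinearMap.lTensor_id]
  refine ⟨fun x y hxy => ?_, fun z => ?_⟩
  · have h1 : bcm R R' L G E ((Linear.rightComp R G e.inv).lTensor R' x) =
        bcm R R' L G E ((Linear.rightComp R G e.inv).lTensor R' y) := by
      rw [bcm_postcomp, bcm_postcomp, hxy]
    simpa [← LinearMap.comp_apply, hc'] using congrArg ((Linear.rightComp R G e.hom).lTensor R') (h.1 h1)
  · obtain ⟨x, hx⟩ := h.2 (z ≫ L.map e.inv)
    exact ⟨(Linear.rightComp R G e.hom).lTensor R' x, by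
      rw [bcm_postcomp, hx, Category.assoc, ← L.map_comp, e.inv_hom_id, L.map_id, Category.comp_id]⟩

lemma BC.of_retract {G G' E : C} (r : Retract G' G) (h : BC R R' L G E) : BC R R' L G' E := by
  have hc : (Linear.leftComp R E r.i).lTensor R' ∘ₗ (Linear.leftComp R E r.r).lTensor R' =
      LinearMap.id := by
    rw [← LinearMap.lTensor_comp, show Linear.leftComp R E r.i ∘ₗ Linear.leftComp R E r.r = LinearMap.id from
      LinearMap.ext fun f => by simp, LinearMap.lTensor_id]
  refine ⟨fun x y hxy => ?_, fun z => ?_⟩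
  · have h1 : bcm R R' L G E ((Linear.leftComp R E r.r).lTensor R' x) =
        bcm R R' L G E ((Linear.leftComp R E r.r).lTensor R' y) := by
      rw [bcm_precomp, bcm_precomp, hxy]
    simpa [← LinearMap.comp_apply, hc] using congrArg ((Linear.leftComp R E r.i).lTensor R') (h.1 h1)
  · obtain ⟨x, hx⟩ := h.2 (L.map r.r ≫ z)
    exact ⟨(Linear.leftComp R E r.i).lTensor R' x, by
      rw [bcm_precomp, hx, ← Category.assoc, ← L.map_comp, r.retract, L.map_id, Category.id_comp]⟩

lemma BC.of_iso_left {G G' E : C} (e : G ≅ G') (h : BC R R' L G E) : BC R R' L G' E :=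
  h.of_retract ⟨e.inv, e.hom, e.inv_hom_id⟩

lemma BC.of_subsingleton {G E : C} (h : Subsingleton (G ⟶ E)) (h' : Subsingleton (L.obj G ⟶ L.obj E)) :
    BC R R' L G E := by
  refine ⟨fun x y _ => ?_, fun z => ⟨0, Subsingleton.elim _ _⟩⟩
  have h0 : ∀ v : R' ⊗[R] (G ⟶ E), v = 0 := fun v => by
    induction v using TensorProduct.induction_on with
    | zero => rfl
    | tmul r f => rw [Subsingleton.elim f 0, TensorProduct.tmul_zero]
    | add a b ha hb => rw [ha, hb, add_zero]
  rw [h0 x, h0 y]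

end

section Triangulated

open Groth.Agent.Dual3Nu

variable {R R' : Type u} [CommRing R] [CommRing R'] [Algebra R R'] [Module.Flat R R']
  {C D : Type*} [Category* C] [Category* D] [Preadditive C] [Preadditive D] [Linear R C] [Linear R D]
  [Linear R' D] [∀ A B : D, IsScalarTower R R' (A ⟶ B)]
  [HasZeroObject C] [HasShift C ℤ] [∀ n : ℤ, (shiftFunctor C n).Additive] [Pretriangulated C]
  [HasZeroObject D] [HasShift D ℤ] [∀ n : ℤ, (shiftFunctor D n).Additive] [Pretriangulated D]
  {L : C ⥤ D} [L.Additive] [L.Linear R]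

lemma exact_rightComp (T : Triangle C) (hT : T ∈ distTriang C) (G : C) :
    Function.Exact (Linear.rightComp R G T.mor₁) (Linear.rightComp R G T.mor₂) := fun f => by
  refine ⟨fun hf => ?_, ?_⟩
  · obtain ⟨s, hs⟩ := Triangle.coyoneda_exact₂ _ hT f hf
    exact ⟨s, hs.symm⟩
  · rintro ⟨s, rfl⟩
    show (s ≫ T.mor₁) ≫ T.mor₂ = 0
    rw [Category.assoc, comp_distTriang_mor_zero₁₂ _ hT, comp_zero]

lemma exact_leftComp (T : Triangle C) (hT : T ∈ distTriang C) (E : C) :
    Function.Exact (Linear.leftComp R E T.mor₂) (Linear.leftComp R E T.mor₁) := fun f => by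
  refine ⟨fun hf => ?_, ?_⟩
  · obtain ⟨s, hs⟩ := Triangle.yoneda_exact₂ _ hT f hf
    exact ⟨s, hs.symm⟩
  · rintro ⟨s, rfl⟩
    show T.mor₁ ≫ T.mor₂ ≫ s = 0
    rw [← Category.assoc, comp_distTriang_mor_zero₁₂ _ hT, zero_comp]

lemma exact_map_rightComp (hL : TriP L) (T : Triangle C) (hT : T ∈ distTriang C) (G : C) :
    Function.Exact (Linear.rightComp R (L.obj G) (L.map T.mor₁)) (Linear.rightComp R (L.obj G) (L.map T.mor₂)) := by
  obtain ⟨c, hc⟩ := hL T hT
  exact exact_rightComp _ hc _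

lemma exact_map_leftComp (hL : TriP L) (T : Triangle C) (hT : T ∈ distTriang C) (E : C) :
    Function.Exact (Linear.leftComp R (L.obj E) (L.map T.mor₂)) (Linear.leftComp R (L.obj E) (L.map T.mor₁)) := by
  obtain ⟨c, hc⟩ := hL T hT
  exact exact_leftComp _ hc _

/-- five lemma in the second variable -/
theorem BC.obj₃ (hL : TriP L) (T : Triangle C) (hT : T ∈ distTriang C) (G : C)
    (h₁ : BC R R' L G T.obj₁) (h₂ : BC R R' L G T.obj₂) (h₁' : BC R R' L G (T.obj₁⟦(1 : ℤ)⟧))
    (h₂' : BC R R' L G (T.obj₂⟦(1 : ℤ)⟧)) : BC R R' L G T.obj₃ := by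
  have hR := rot_of_distTriang _ hT
  have hR' := rot_of_distTriang _ hR
  let b : ∀ A : C, R' ⊗[R] (G ⟶ A) →ₗ[R] (L.obj G ⟶ L.obj A) := fun A => (bcm R R' L G A).restrictScalars R
  have sq : ∀ {A B : C} (u : A ⟶ B), (Linear.rightComp R (L.obj G) (L.map u)) ∘ₗ b A =
      b B ∘ₗ (Linear.rightComp R G u).lTensor R' := fun u =>
    LinearMap.ext fun x => (bcm_postcomp R R' L u x).symm
  exact LinearMap.bijective_of_surjective_of_bijective_of_bijective_of_injective
    _ _ _ _ _ _ _ _ (b T.obj₁) (b T.obj₂) (b T.obj₃) (b (T.obj₁⟦(1 : ℤ)⟧)) (b (T.obj₂⟦(1 : ℤ)⟧))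
    (sq T.mor₁) (sq T.mor₂) (sq T.mor₃) (sq (-T.mor₁⟦(1 : ℤ)⟧'))
    (Module.Flat.lTensor_exact R' (exact_rightComp _ hT G))
    (Module.Flat.lTensor_exact R' (exact_rightComp _ hR G))
    (Module.Flat.lTensor_exact R' (exact_rightComp _ hR' G))
    (exact_map_rightComp hL _ hT G) (exact_map_rightComp hL _ hR G) (exact_map_rightComp hL _ hR' G)
    h₁.2 h₂ h₁' h₂'.1

/-- five lemma in the first variable -/
theorem BC.obj₃_left (hL : TriP L) (T : Triangle C) (hT : T ∈ distTriang C) (E : C)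
    (h₁ : BC R R' L T.obj₁ E) (h₂ : BC R R' L T.obj₂ E) (h₁' : BC R R' L (T.obj₁⟦(1 : ℤ)⟧) E)
    (h₂' : BC R R' L (T.obj₂⟦(1 : ℤ)⟧) E) : BC R R' L T.obj₃ E := by
  have hR := rot_of_distTriang _ hT
  have hR' := rot_of_distTriang _ hR
  let b : ∀ A : C, R' ⊗[R] (A ⟶ E) →ₗ[R] (L.obj A ⟶ L.obj E) := fun A => (bcm R R' L A E).restrictScalars R
  have sq : ∀ {A B : C} (u : A ⟶ B), (Linear.leftComp R (L.obj E) (L.map u)) ∘ₗ b B =
      b A ∘ₗ (Linear.leftComp R E u).lTensor R' := fun u =>
    LinearMap.ext fun x => (bcm_precomp R R' L u x).symm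
  exact LinearMap.bijective_of_surjective_of_bijective_of_bijective_of_injective
    _ _ _ _ _ _ _ _ (b (T.obj₂⟦(1 : ℤ)⟧)) (b (T.obj₁⟦(1 : ℤ)⟧)) (b T.obj₃) (b T.obj₂) (b T.obj₁)
    (sq (-T.mor₁⟦(1 : ℤ)⟧')) (sq T.mor₃) (sq T.mor₂) (sq T.mor₁)
    (Module.Flat.lTensor_exact R' (exact_leftComp _ hR' E))
    (Module.Flat.lTensor_exact R' (exact_leftComp _ hR E))
    (Module.Flat.lTensor_exact R' (exact_leftComp _ hT E))
    (exact_map_leftComp hL _ hR' E) (exact_map_leftComp hL _ hR E) (exact_map_leftComp hL _ hT E)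
    h₂'.2 h₁' h₂ h₁.1

end Triangulated

end Groth.Agent.HomBC
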