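import Groth.Agent.Dual3Nu.Tri
import Groth.Agent.PerfGen.Open
import Groth.Agent.PerfGen.QCohTri
import Groth.Agent.DQPush.Basic
import Groth.Agent.S0922

/-!
Objects with quasi-coherent cohomology are built from direct images from affine opens.
-/

set_option autoImplicit false
set_option backward.isDefEq.respectTransparency false
set_option backward.isDefEq.respectTransparency.types false
set_option linter.style.haveILetI false
set_option linter.unusedSectionVars false

universe u

open CategoryTheory Limits Pretriangulated AlgebraicGeometry ZeroObject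

attribute [local instance] HasDerivedCategory.standard

namespace Groth.Agent.HomBC

open Groth.Agent.DQCoh (RD)
open Groth.Agent.PerfGen

/-- a class containing direct images from affine opens and closed under cones contains all of `D_QCoh` -/
theorem of_affine_push {X : Scheme.{u}} [CompactSpace X] [QuasiSeparatedSpace X] (Q : ObjectProperty (DCoh.D X))
    [Q.IsClosedUnderIsomorphisms] (hzero : ∀ M : DCoh.D X, IsZero M → Q M)
    (h₁ : ∀ T : Triangle (DCoh.D X), T ∈ distTriang (DCoh.D X) → Q T.obj₂ → Q T.obj₃ → Q T.obj₁)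
    (haff : ∀ U : X.Opens, IsAffineOpen U → ∀ F : DCoh.D (U : Scheme.{u}), DCoh.IsQCohD F →
      Q ((DCoh.Rpush U.ι).obj F))
    (E : DCoh.D X) (hE : DCoh.IsQCohD E) : Q E := by
  suffices H : ∀ S : X.Opens, IsCompact (S : Set X) → ∀ F : DCoh.D (S : Scheme.{u}), DCoh.IsQCohD F →
      Q ((DCoh.Rpush S.ι).obj F) by
    haveI : IsIso ((adjR (⊤ : X.Opens).ι).unit.app E) :=
      isIso_of_cover (⊤ : X.Opens).ι (⊤ : X.Opens).ι
        (Set.eq_univ_of_forall fun x => Or.inl ⟨⟨x, trivial⟩, rfl⟩) _
        (isIso_map_unit_adjR _ E) (isIso_map_unit_adjR _ E)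
    exact Q.prop_of_iso (asIso ((adjR (⊤ : X.Opens).ι).unit.app E)).symm
      (H ⊤ (by simpa using isCompact_univ) _ (isQCohD_RD _ hE))
  intro S hS
  refine compact_open_induction_on S hS ?_ ?_
  · intro F _
    refine hzero _ ((DCoh.Rpush _).map_isZero ?_)
    exact isZero_of_suppD_empty fun i x _ => x.2.elim
  · intro S hS U ih F hF
    let Z : X.Opens := S ⊔ U.1
    haveI : CompactSpace (Z : Scheme.{u}) :=
      isCompact_iff_compactSpace.1 (by simpa [Z] using hS.union U.2.isCompact)
    haveI : QuasiSeparatedSpace (Z : Scheme.{u}) := quasiSeparatedSpace_of_quasiSeparated Z.ι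
    haveI : CompactSpace (S : Scheme.{u}) := isCompact_iff_compactSpace.1 hS
    haveI : QuasiSeparatedSpace (S : Scheme.{u}) := quasiSeparatedSpace_of_quasiSeparated S.ι
    haveI : IsAffine (U.1 : Scheme.{u}) := U.2
    let j : (S : Scheme.{u}) ⟶ (Z : Scheme.{u}) := X.homOfLE le_sup_left
    let k : (U.1 : Scheme.{u}) ⟶ (Z : Scheme.{u}) := X.homOfLE le_sup_right
    haveI : QuasiCompact j := quasiCompact_of_compactSpace _
    haveI : QuasiCompact k := quasiCompact_of_compactSpace _
    have hcov : Set.range k.base ∪ Set.range j.base = Set.univ := Set.eq_univ_of_forall fun z => by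
      rcases z.2 with hz | hz
      · exact Or.inr ⟨⟨z.1, hz⟩, Scheme.homOfLE_apply' _ _ _⟩
      · exact Or.inl ⟨⟨z.1, hz⟩, Scheme.homOfLE_apply' _ _ _⟩
    obtain ⟨C, p, q, hC⟩ := distinguished_cocone_triangle ((adjR k).unit.app F)
    have hCk : IsZero ((RD k).obj C) :=
      (Triangle.isZero₃_iff_isIso₁ _ ((RD k).map_distinguished _ hC)).2 (isIso_map_unit_adjR k F)
    haveI := isIso_unit_of_cover k j hcov hCk
    have hCq : DCoh.IsQCohD C :=
      isQCohD_obj₃ _ hC hF (DQPush.isQCohD_rpush k (isQCohD_RD k hF))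
    obtain ⟨c, hc⟩ := Dual3Nu.triP_rpush Z.ι _ hC
    refine h₁ _ hc ?_ ?_
    · have ej : k ≫ Z.ι = U.1.ι := Scheme.homOfLE_ι _ _
      obtain ⟨cU⟩ : Nonempty (DCoh.Rpush k ⋙ DCoh.Rpush Z.ι ≅ DCoh.Rpush U.1.ι) := by
        rw [← ej] at *
        exact S0922.result k Z.ι
      exact Q.prop_of_iso (cU.app _).symm (haff U.1 U.2 _ (isQCohD_RD k hF))
    · have ej : j ≫ Z.ι = S.ι := Scheme.homOfLE_ι _ _
      obtain ⟨cS⟩ : Nonempty (DCoh.Rpush j ⋙ DCoh.Rpush Z.ι ≅ DCoh.Rpush S.ι) := by
        rw [← ej] at *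
        exact S0922.result j Z.ι
      exact Q.prop_of_iso ((cS.app _).symm ≪≫ (DCoh.Rpush Z.ι).mapIso (asIso ((adjR j).unit.app C)).symm)
        (ih _ (isQCohD_RD j hCq))

end Groth.Agent.HomBC
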