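import Groth.Agent.HomBC.Affine
import Groth.Agent.HomBC.OpenGen
import Groth.Agent.FMTool.BC
import Groth.Agent.DCohShriek.AdjointShift

/-!
**Flat base change of `Hom` out of perfect objects.**
-/

set_option autoImplicit false
set_option backward.isDefEq.respectTransparency false
set_option backward.isDefEq.respectTransparency.types false
set_option linter.style.haveILetI false
set_option linter.unusedSectionVars false
set_option maxHeartbeats 1200000

universe u

open CategoryTheory Limits Pretriangulated AlgebraicGeometry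
open scoped TensorProduct

attribute [local instance] HasDerivedCategory.standard

namespace Groth.Agent.HomBC

open Groth.Agent.PerfGen

section

variable {X X' : Scheme.{u}} (g : X' ⟶ X)

theorem additive_Lpull [DCoh.HasLpull g] : (DCoh.Lpull g).Additive := by
  haveI : DCoh.HasRpush g := DerPush.hasRpush_sch g
  haveI := DCohShriek.additive_rpush g
  obtain ⟨adj⟩ := DerPush.nonempty_lpull_adj_rpush g
  exact adj.left_adjoint_additive

end

variable {R R' : Type u} [CommRing R] [CommRing R'] [Algebra R R']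
  {X X' : Scheme.{u}} [X.Over (Spec (CommRingCat.of R))] [X'.Over (Spec (CommRingCat.of R))]
  [X'.Over (Spec (CommRingCat.of R'))] {g : X' ⟶ X} [g.IsOver (Spec (CommRingCat.of R))]
  (hsq : IsPullback g (X' ↘ Spec (CommRingCat.of R')) (X ↘ Spec (CommRingCat.of R))
    (Spec.map (CommRingCat.ofHom (algebraMap R R'))))

include hsq in
/-- the two actions on `D(X')` are compatible -/
theorem tower_of_sq (A B : DCoh.D X') : IsScalarTower R R' (A ⟶ B) := by
  refine isScalarTower_D (fun a => ?_) A B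
  rw [show X' ↘ Spec (CommRingCat.of R) = g ≫ X ↘ Spec (CommRingCat.of R) from (comp_over g _).symm, hsq.w]
  exact congrArg (X' ↘ Spec (CommRingCat.of R')).appTop.hom
    (congrArg (fun φ => φ.hom a) (Scheme.ΓSpecIso_inv_naturality (CommRingCat.ofHom (algebraMap R R')))).symm

variable [Module.Flat R R'] [DCoh.HasLpull g] [(DCoh.Lpull g).Additive]
  [(DCoh.Lpull g).Linear R] [∀ A B : DCoh.D X', IsScalarTower R R' (A ⟶ B)]

include hsq in
/-- base change for a direct image from an affine open -/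
theorem bc_push [CompactSpace X] [QuasiSeparatedSpace X] (U : X.Opens) (hU : IsAffineOpen U) {G : DCoh.D X}
    (hG : DCoh.IsPerfect G) {F : DCoh.D (U : Scheme.{u})} (hF : DCoh.IsQCohD F) :
    BC R R' (DCoh.Lpull g) G ((DCoh.Rpush U.ι).obj F) := by
  haveI : Flat g := MorphismProperty.of_isPullback (P := @Flat) hsq.flip (by
    rw [Flat.SpecMap_iff]
    exact RingHom.flat_algebraMap_iff.2 ‹_›)
  haveI : IsAffine (U : Scheme.{u}) := hU
  haveI : QuasiCompact U.ι := quasiCompact_of_compactSpace _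
  let j' := (g ⁻¹ᵁ U).ι
  let gU := g ∣_ U
  letI : (U : Scheme.{u}).Over (Spec (CommRingCat.of R)) := ⟨U.ι ≫ X ↘ Spec (CommRingCat.of R)⟩
  letI : (g ⁻¹ᵁ U : Scheme.{u}).Over (Spec (CommRingCat.of R)) := ⟨j' ≫ X' ↘ Spec (CommRingCat.of R)⟩
  letI : (g ⁻¹ᵁ U : Scheme.{u}).Over (Spec (CommRingCat.of R')) := ⟨j' ≫ X' ↘ Spec (CommRingCat.of R')⟩
  haveI : U.ι.IsOver (Spec (CommRingCat.of R)) := ⟨rfl⟩
  haveI : j'.IsOver (Spec (CommRingCat.of R)) := ⟨rfl⟩
  haveI : j'.IsOver (Spec (CommRingCat.of R')) := ⟨rfl⟩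
  haveI : gU.IsOver (Spec (CommRingCat.of R)) := ⟨by
    show gU ≫ U.ι ≫ X ↘ Spec (CommRingCat.of R) = j' ≫ X' ↘ Spec (CommRingCat.of R)
    rw [← comp_over g (Spec (CommRingCat.of R))]
    exact morphismRestrict_ι_assoc g U _⟩
  have hsqU : IsPullback gU ((g ⁻¹ᵁ U : Scheme.{u}) ↘ Spec (CommRingCat.of R'))
      ((U : Scheme.{u}) ↘ Spec (CommRingCat.of R)) (Spec.map (CommRingCat.ofHom (algebraMap R R'))) :=
    (isPullback_morphismRestrict g U).paste_vert hsq
  haveI := KFlat.hasLpull U.ι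
  haveI := KFlat.hasLpull j'
  haveI := KFlat.hasLpull gU
  haveI : DCoh.HasRpush j' := DerPush.hasRpush_sch j'
  haveI : DCoh.HasRpush gU := DerPush.hasRpush_sch gU
  haveI := additive_Lpull gU
  haveI := additive_Lpull U.ι
  haveI := additive_Lpull j'
  haveI := linear_Lpull (A := R) gU
  haveI := linear_Lpull (A := R) U.ι
  haveI := linear_Lpull (A := R') j'
  haveI : ∀ A B : DCoh.D (g ⁻¹ᵁ U : Scheme.{u}), IsScalarTower R R' (A ⟶ B) := tower_of_sq hsqU
  obtain ⟨adjL⟩ := DerPush.nonempty_lpull_adj_rpush U.ι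
  obtain ⟨adjL'⟩ := DerPush.nonempty_lpull_adj_rpush j'
  obtain ⟨a⟩ := Dual3Nu.nonempty_lpull_RD_nat U.ι
  obtain ⟨a'⟩ := Dual3Nu.nonempty_lpull_RD_nat j'
  haveI := isIso_counit_adjR U.ι
  haveI := isIso_counit_adjR j'
  haveI : (DCoh.Rpush U.ι).Full := (adjR U.ι).fullyFaithfulROfIsIsoCounit.full
  haveI : (DCoh.Rpush U.ι).Faithful := (adjR U.ι).fullyFaithfulROfIsIsoCounit.faithful
  haveI : (DCoh.Rpush j').Full := (adjR j').fullyFaithfulROfIsIsoCounit.full
  haveI : (DCoh.Rpush j').Faithful := (adjR j').fullyFaithfulROfIsIsoCounit.faithful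
  haveI : IsIso adjL.counit := inferInstance
  -- the target is local
  let E := (DCoh.Rpush U.ι).obj F
  haveI : IsIso (adjL'.unit.app ((DCoh.Lpull g).obj E)) := by
    obtain ⟨b⟩ := FMTool.nonempty_bcNat (f := U.ι) (g := g) (f' := j') (g' := gU)
      (isPullback_morphismRestrict g U) (Or.inl inferInstance)
    let eM : (DCoh.Rpush j').obj ((DCoh.Lpull gU).obj F) ≅ (DCoh.Lpull g).obj E := (b.app ⟨F, hF⟩).symm
    haveI : IsIso (adjL'.unit.app ((DCoh.Rpush j').obj ((DCoh.Lpull gU).obj F))) := inferInstance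
    exact (NatTrans.isIso_app_iff_of_iso adjL'.unit eM).1 ‹_›
  obtain ⟨sq⟩ := FMTool.nonempty_lpull_square (f := j') (g := g) (f' := gU) (g' := U.ι)
    (morphismRestrict_ι g U).symm
  -- the two transports
  let l₁ : (G ⟶ E) →ₗ[R] ((DCoh.Lpull U.ι).obj G ⟶ F) :=
    (Linear.rightComp R _ (adjL.counit.app F)).comp ((DCoh.Lpull U.ι).mapLinearMap R)
  have hl₁ : Function.Bijective l₁ := by
    have : ⇑l₁ = (adjL.homEquiv G F).symm := funext fun x => (adjL.homEquiv_counit _ _ _).symm
    rw [this]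
    exact Equiv.bijective _
  let e₁ := LinearEquiv.ofBijective l₁ hl₁
  let e₂ : ((DCoh.Lpull g).obj G ⟶ (DCoh.Lpull g).obj E) →ₗ[R']
      ((DCoh.Lpull gU).obj ((DCoh.Lpull U.ι).obj G) ⟶ (DCoh.Lpull gU).obj F) :=
    ((Linear.rightComp R' _ (sq.hom.app E ≫ (DCoh.Lpull gU).map (adjL.counit.app F))).comp
      (Linear.leftComp R' _ (sq.inv.app G))).comp ((DCoh.Lpull j').mapLinearMap R')
  have he₂ : Function.Bijective e₂ := by
    have h1 : Function.Bijective fun y : (DCoh.Lpull g).obj G ⟶ (DCoh.Lpull g).obj E => (DCoh.Lpull j').map y := by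
      have h : (fun y : (DCoh.Lpull g).obj G ⟶ (DCoh.Lpull g).obj E => (DCoh.Lpull j').map y) =
          (adjL'.homEquiv _ _).symm ∘ fun y => y ≫ adjL'.unit.app ((DCoh.Lpull g).obj E) := by
        funext y
        refine (Equiv.eq_symm_apply _).2 ?_
        rw [Adjunction.homEquiv_unit]
        exact (adjL'.unit.naturality y).symm
      rw [h]
      exact (Equiv.bijective _).comp (asIso (adjL'.unit.app ((DCoh.Lpull g).obj E))).homToEquiv.bijective
    haveI : IsIso (sq.hom.app E ≫ (DCoh.Lpull gU).map (adjL.counit.app F)) :=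
      IsIso.comp_isIso' (inferInstanceAs (IsIso (sq.hom.app E))) inferInstance
    exact (show Function.Bijective fun v => v ≫ (sq.hom.app E ≫ (DCoh.Lpull gU).map (adjL.counit.app F)) from
      (asIso (sq.hom.app E ≫ (DCoh.Lpull gU).map (adjL.counit.app F))).homToEquiv.bijective).comp
      ((show Function.Bijective fun v => sq.inv.app G ≫ v from
        ⟨fun x y h => (cancel_epi (sq.inv.app G)).1 h, fun w => ⟨inv (sq.inv.app G) ≫ w, by simp⟩⟩).comp h1)
  have key : ∀ x, bcm R R' (DCoh.Lpull gU) _ F (e₁.lTensor R' x) = e₂ (bcm R R' (DCoh.Lpull g) G E x) := fun x => by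
    induction x using TensorProduct.induction_on with
    | zero => simp
    | tmul r f =>
      rw [LinearEquiv.lTensor_tmul, bcm_tmul, bcm_tmul, map_smul]
      refine congrArg (r • ·) ?_
      show (DCoh.Lpull gU).map ((DCoh.Lpull U.ι).map f ≫ adjL.counit.app F) =
        (sq.inv.app G ≫ (DCoh.Lpull j').map ((DCoh.Lpull g).map f)) ≫
          (sq.hom.app E ≫ (DCoh.Lpull gU).map (adjL.counit.app F))
      have hn := sq.hom.naturality f
      simp only [Functor.comp_map] at hn
      simp only [Category.assoc]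
      rw [reassoc_of% hn, Iso.inv_hom_id_app_assoc, Functor.map_comp]
    | add a b ha hb => simp only [map_add, ha, hb]
  have h := bc_affine hsqU (DerPerf.isPerfect_Lpull U.ι G hG) hF
  refine (Function.Bijective.of_comp_iff' he₂ _).1 ?_
  show Function.Bijective fun x => e₂ (bcm R R' (DCoh.Lpull g) G E x)
  simp only [← key]
  exact h.comp (e₁.lTensor R').bijective

include hsq in
/-- **flat base change of `Hom` out of a perfect object** -/
theorem bc [CompactSpace X] [QuasiSeparatedSpace X] {G : DCoh.D X} (hG : DCoh.IsPerfect G) {E : DCoh.D X}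
    (hE : DCoh.IsQCohD E) : BC R R' (DCoh.Lpull g) G E := by
  let Q : ObjectProperty (DCoh.D X) := fun E => ∀ n : ℤ, BC R R' (DCoh.Lpull g) G (E⟦n⟧)
  haveI : Q.IsClosedUnderIsomorphisms := ⟨fun {_ _} e h n => (h n).of_iso ((shiftFunctor _ n).mapIso e)⟩
  have hQ : Q E := by
    refine of_affine_push Q (fun M hM n => BC.of_subsingleton
      ⟨((shiftFunctor _ n).map_isZero hM).eq_of_tgt⟩
      ⟨((DCoh.Lpull g).map_isZero ((shiftFunctor _ n).map_isZero hM)).eq_of_tgt⟩) ?_ ?_ E hE
    · intro T hT h₂ h₃ n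
      have hT' := inv_rot_of_distTriang _ (inv_rot_of_distTriang _ hT)
      have s : ∀ {A : DCoh.D X}, Q A → Q (A⟦(-1 : ℤ)⟧) := fun {A} h m =>
        (h (-1 + m)).of_iso ((shiftFunctorAdd (DCoh.D X) (-1) m).app A)
      exact BC.obj₃ (Dual3Nu.triP_Lpull g) _ (Triangle.shift_distinguished _ hT' n) G (s h₂ n) (s h₃ n)
        (((s h₂) (n + 1)).of_iso ((shiftFunctorAdd _ n 1).app _))
        (((s h₃) (n + 1)).of_iso ((shiftFunctorAdd _ n 1).app _))
    · intro U hU F hF n
      haveI : IsAffine (U : Scheme.{u}) := hU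
      haveI : QuasiCompact U.ι := quasiCompact_of_compactSpace _
      exact (bc_push hsq U hU hG (isQCohD_shift hF n)).of_iso
        ((DCohShriek.rpushShiftIso U.ι n).app F)
  exact (hQ 0).of_iso ((shiftFunctorZero (DCoh.D X) ℤ).app E)

end Groth.Agent.HomBC
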